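import Cfsg.Agent.H209.PiSpor.ToolsV
import Cfsg.Agent.KFacts.Th.Main
import Cfsg.Agent.MonsterX.ThOneClass
import Cfsg.Agent.H478.Th3C
import Cfsg.Agent.H491.PB.ThC
import Cfsg.Agent.Th.D4Main
import Cfsg.Agent.H478.RadTh
import Cfsg.Agent.H467.PiSpor.ThData

/-!
# S4324, the row of the Thompson group (`s = 3, 5, 7`)

* elements of order 2, 3, 5, 7 have conjugates in `C(a) = 2^(1+8).A9` with nontrivial image in `A9`;
* 13, 19 : (V) with an element of order 5 (7) for `s = 5` (`s = 7`), `3D4(2)` for `13`, `s = 3`;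
* 31 : (V) for `s = 7`;
* `(s, p) = (3, 19), (3, 31), (5, 31)` : explicit products of two conjugates of order divisible by `s`.
-/

set_option autoImplicit false
set_option maxRecDepth 100000

namespace Cfsg.Agent.H467.PiSpor.Th

open Subgroup Cfsg Cfsg.Agent.H216.Pi Cfsg.Agent.H209.PiSpor
open Cfsg.Agent.Th.IndexUpper (gTh gTh_relK)
open Cfsg.Agent.Th.Base Cfsg.Agent.Th.Word Cfsg.Agent.KFacts.Th.Main Cfsg.Agent.KFacts.Th.Struct
open Cfsg.Agent.Th.KOracle Cfsg.Agent.Th.COracleDef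

local notation "NT" => 90745943887872000

theorem fin_th : Finite Spor.Th := finite

theorem card_th : Nat.card Spor.Th = NT := ctx.card

theorem simple_th : IsSimpleGroup Spor.Th := Cfsg.Agent.Th.Main1700.isTh.1

theorem center_th : center Spor.Th = ⊥ := by
  have := simple_th
  rcases (inferInstance : (center Spor.Th).Normal).eq_bot_or_eq_top with h | h
  · exact h
  · exfalso
    have h1 : centralizer ({gTh 1} : Set Spor.Th) = ⊤ := by
      rw [eq_top_iff]
      intro g _
      rw [mem_centralizer_singleton_iff]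
      have h2 : gTh 1 ∈ center Spor.Th := by
        rw [h]
        exact mem_top _
      exact mem_center_iff.1 h2 g
    have h3 := MonsterX.ThOneClass.card_a
    rw [h1, card_top, card_th] at h3
    norm_num at h3

/-- the centraliser of the involution `a` -/
abbrev CA : Subgroup Spor.Th := centralizer ({gTh 1} : Set Spor.Th)

theorem ca_ne_top : CA ≠ ⊤ := by
  intro h
  have h1 : gTh 1 ∈ center Spor.Th := by
    rw [mem_center_iff]
    intro g
    have h2 : g ∈ CA := by rw [h]; exact mem_top g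
    exact mem_centralizer_singleton_iff.1 h2
  rw [center_th, mem_bot] at h1
  exact ctx.a1 h1

/-- the epimorphism onto `A9`, with 2-group kernel; the image of the involution `d` is not trivial -/
theorem exists_epi : ∃ f : CA →* alternatingGroup (Fin 9), Function.Surjective f ∧ Nat.card f.ker = 512 ∧
    ∃ d : CA, orderOf (d : Spor.Th) = 2 ∧ f d ≠ 1 := by
  have hc := ctx
  obtain ⟨f, hf, hker, hw⟩ := hc.exists_epi
  let e : CA ≃* sub gTh isC := MulEquiv.subgroupCongr hc.cent
  refine ⟨f.comp e.toMonoidHom, hf.comp e.surjective, ?_, ?_⟩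
  · have h1 : Nat.card f.ker = 512 := by
      rw [hker, Nat.card_congr (subgroupOfEquivOfLe hc.Q_le).toEquiv, hc.cardQ]
    rw [← h1]
    have h2 : (f.comp e.toMonoidHom).ker = f.ker.comap e.toMonoidHom := rfl
    rw [h2]
    exact Nat.card_congr ⟨fun x => ⟨e x, x.2⟩, fun x => ⟨e.symm x, by
      show f (e (e.symm x)) = 1
      rw [MulEquiv.apply_symm_apply]
      exact x.2⟩, fun x => Subtype.ext (e.symm_apply_apply _), fun x => Subtype.ext (e.apply_symm_apply _)⟩
  · have hmem : ∀ x ∈ [4], isC x = true := by decide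
    have h4 := hw [4] hmem
    refine ⟨e.symm ⟨ev gTh [4], ev_mem_sub hmem⟩, ?_, ?_⟩
    · show orderOf (ev gTh [4]) = 2
      rw [ev_singleton]
      refine orderOf_eq_prime gTh_relK.d2 fun h => ?_
      have h5 := Cfsg.Agent.Th.PermTab.ev_rho_inv_apply Cfsg.Agent.Th.NineAct.isTab9 hmem (0 : Fin 9)
      rw [← h4] at h5
      have h6 : (⟨ev gTh [4], ev_mem_sub hmem⟩ : sub gTh isC) = 1 := Subtype.ext (by
        show ev gTh [4] = 1
        rw [ev_singleton, h])
      rw [h6, map_one] at h5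
      have h7 : (0 : ℕ) = Cfsg.Agent.Th.Word.tr Cfsg.Agent.Th.NineAct.act9 [4] 0 := by simpa using h5
      exact absurd h7 (by decide +kernel)
    · show f (e (e.symm _)) ≠ 1
      rw [MulEquiv.apply_symm_apply]
      intro h
      have h5 := Cfsg.Agent.Th.PermTab.ev_rho_inv_apply Cfsg.Agent.Th.NineAct.isTab9 hmem (0 : Fin 9)
      rw [← h4, h] at h5
      have h7 : (0 : ℕ) = Cfsg.Agent.Th.Word.tr Cfsg.Agent.Th.NineAct.act9 [4] 0 := by simpa using h5
      exact absurd h7 (by decide +kernel)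

theorem core_a9 {s : ℕ} (hs : s = 3 ∨ s = 5 ∨ s = 7) : pPrimeCore s (alternatingGroup (Fin 9)) = ⊥ := by
  have : IsSimpleGroup (alternatingGroup (Fin 9)) := alternatingGroup.isSimpleGroup (by simp)
  have hc : Nat.card (alternatingGroup (Fin 9)) = 181440 := by
    rw [nat_card_alternatingGroup, Nat.card_eq_fintype_card, Fintype.card_fin]
    decide
  refine core_eq_bot_of_simple (by rcases hs with rfl | rfl | rfl <;> norm_num) ?_
  rw [hc]
  rcases hs with rfl | rfl | rfl <;> norm_num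

theorem prime_of {s : ℕ} (hs : s = 3 ∨ s = 5 ∨ s = 7) : s.Prime := by
  rcases hs with rfl | rfl | rfl <;> norm_num

/-- elements of odd prime order commuting with an involution -/
theorem ni_of_comm {s p : ℕ} (hs : s = 3 ∨ s = 5 ∨ s = 7) (hp : p.Prime) (hp2 : p ≠ 2) (hps : p ≠ s)
    (h : ∀ g : Spor.Th, orderOf g = p → ∃ t : Spor.Th, orderOf t = 2 ∧ g * t = t * g) : NI s p Spor.Th := by
  have := fin_th
  obtain ⟨f, hf, hker, -⟩ := exists_epi
  refine NI.of_forall (prime_of hs) hp hps fun g hg => ?_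
  obtain ⟨t, ht, hgt⟩ := h g hg
  obtain ⟨c, hc⟩ := isConj_iff.1 (MonsterX.ThOneClass.oneClass t (gTh 1) ht MonsterX.ThOneClass.orderOf_a)
  have hm : c * g * c⁻¹ ∈ CA := by
    rw [mem_centralizer_singleton_iff, ← hc]
    calc c * g * c⁻¹ * (c * t * c⁻¹) = c * (g * t) * c⁻¹ := by group
      _ = c * (t * g) * c⁻¹ := by rw [hgt]
      _ = _ := by group
  refine ⟨c, CA, ca_ne_top, hm, ?_⟩
  refine not_mem_coreIn_of_hom hm f hf (core_a9 hs) ?_
  intro h1
  have h1' : (⟨c * g * c⁻¹, hm⟩ : CA) ∈ f.ker := h1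
  have h2 : orderOf (⟨(⟨c * g * c⁻¹, hm⟩ : CA), h1'⟩ : f.ker) ∣ 512 := by
    rw [← hker]
    exact orderOf_dvd_natCard _
  rw [Subgroup.orderOf_mk, Subgroup.orderOf_mk, orderOf_conj', hg] at h2
  have h3 : p ∣ 2 := hp.dvd_of_dvd_pow (show p ∣ 2 ^ 9 from h2)
  exact hp2 ((Nat.prime_dvd_prime_iff_eq hp Nat.prime_two).1 h3)

/-- involutions -/
theorem ni_two {s : ℕ} (hs : s = 3 ∨ s = 5 ∨ s = 7) : NI s 2 Spor.Th := by
  have := fin_th
  obtain ⟨f, hf, -, d, hd, hfd⟩ := exists_epi
  refine NI.of_forall (prime_of hs) Nat.prime_two (by omega) fun g hg => ?_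
  obtain ⟨c, hc⟩ := isConj_iff.1 (MonsterX.ThOneClass.oneClass g d hg hd)
  refine ⟨c, CA, ca_ne_top, by rw [hc]; exact d.2, ?_⟩
  rw [hc]
  exact not_mem_coreIn_of_hom d.2 f hf (core_a9 hs) hfd

/-- `q` divides the order of the centraliser -/
theorem exists_of_dvd {g : Spor.Th} {q : ℕ} (hq : q.Prime) (h : q ∣ Nat.card (centralizer ({g} : Set Spor.Th))) :
    ∃ t : Spor.Th, orderOf t = q ∧ g * t = t * g := by
  have := fin_th
  have := Fact.mk hq
  obtain ⟨w, hw⟩ := exists_prime_orderOf_dvd_card' (G := centralizer ({g} : Set Spor.Th)) q h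
  exact ⟨w, by rw [Subgroup.orderOf_coe, hw], (mem_centralizer_singleton_iff.1 w.2).symm⟩

theorem dvd_of_comm {g t : Spor.Th} {q : ℕ} (ht : orderOf t = q) (h : t * g = g * t) :
    q ∣ Nat.card (centralizer ({g} : Set Spor.Th)) := by
  have h1 := orderOf_dvd_natCard (⟨t, mem_centralizer_singleton_iff.2 h⟩ : centralizer ({g} : Set Spor.Th))
  rwa [Subgroup.orderOf_mk, ht] at h1

theorem ni_357 {s p : ℕ} (hs : s = 3 ∨ s = 5 ∨ s = 7) (hp : p = 3 ∨ p = 5 ∨ p = 7) (hps : p ≠ s) :
    NI s p Spor.Th := by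
  refine ni_of_comm hs (prime_of hp) (by omega) hps fun g hg => ?_
  rcases hp with rfl | rfl | rfl
  · exact H478.ThThree.exists_invol hg
  · exact exists_of_dvd Nat.prime_two (by rw [H502.TO.card_five hg]; norm_num)
  · exact exists_of_dvd Nat.prime_two (by rw [H491.PB.Th.card_seven hg]; norm_num)

/-- (V) for `p = 13, 19, 31` -/
theorem ni_V {s p c : ℕ} (hs : s.Prime) (hp : p = 13 ∨ p = 19 ∨ p = 31) {y : Spor.Th} (hy : orderOf y = s)
    (hc : Nat.card (centralizer ({y} : Set Spor.Th)) = c) (hpc : ¬ p ∣ c) (hsp : ¬ s ∣ p - 1) : NI s p Spor.Th := by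
  have := fin_th
  have hpp : p.Prime := by rcases hp with rfl | rfl | rfl <;> norm_num
  refine NI.of_V hs hpp center_th hy (fun h hh heq => hpc ?_) fun b hb hd => ?_
  · rw [← hc]
    exact dvd_of_comm hh heq
  · have hb1 : b = 1 := by
      by_contra hne
      have h1 : p ^ 2 ∣ NT := (pow_dvd_pow p (show 2 ≤ b by omega)).trans (by rw [← card_th]; exact hd)
      rcases hp with rfl | rfl | rfl <;> norm_num at h1
    rw [hb1, pow_one]
    exact hsp

/-- `3D4(2)` -/
theorem ni_3_13 : NI 3 13 Spor.Th := by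
  have := fin_th
  have hK : Nat.card (sub gTh isK) = 634023936 := ctx.cardK
  have hcl : sub gTh isK = closure ({gTh 1, gTh 2, gTh 3, gTh 4, gTh 5, gTh 6, gTh 8} : Set Spor.Th) :=
    Cfsg.Agent.Th.KOracle.sub_isK_eq Cfsg.Agent.Th.IndexUpper.gTh_inv
  have hcard := Cfsg.Agent.Th.D4Main.card_L gTh_relK (by rw [← hcl]; exact hK)
  have hsim := Cfsg.Agent.Th.D4Main.isSimple_L gTh_relK (by rw [← hcl]; exact hK)
  set M := closure ({gTh 1, gTh 2, gTh 3, gTh 4, gTh 5, gTh 6} : Set Spor.Th) with hM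
  have hidx : M.index = 429381000 := by
    have h1 := M.card_mul_index
    rw [hcard, card_th] at h1
    omega
  refine NI.of_index_simple (M := M) Nat.prime_three (by norm_num) (by norm_num) ?_ (by rw [hidx]; norm_num) hsim
    (by rw [hcard]; norm_num)
  intro h
  rw [h, index_top] at hidx
  norm_num at hidx

theorem exists_order {q : ℕ} (hq : q.Prime) (h : q ∣ NT) : ∃ y : Spor.Th, orderOf y = q := by
  have := fin_th
  have := Fact.mk hq
  exact exists_prime_orderOf_dvd_card' (G := Spor.Th) q (by rw [card_th]; exact h)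

theorem prime_cases {q : ℕ} (hq : q.Prime) (hd : q ∣ NT) :
    q = 2 ∨ (q = 3 ∨ q = 5 ∨ q = 7) ∨ (q = 13 ∨ q = 19 ∨ q = 31) := by
  have h1 : (NT : ℕ) = 2 ^ 15 * (3 ^ 10 * (5 ^ 3 * (7 ^ 2 * (13 * (19 * 31))))) := by norm_num
  rw [h1] at hd
  simp only [hq.dvd_mul] at hd
  have aux : ∀ {r : ℕ}, r.Prime → q ∣ r → q = r := fun hr h => (Nat.prime_dvd_prime_iff_eq hq hr).1 h
  rcases hd with h | h | h | h | h | h | h
  · have := aux (by norm_num) (hq.dvd_of_dvd_pow h); omega
  · have := aux (by norm_num) (hq.dvd_of_dvd_pow h); omega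
  · have := aux (by norm_num) (hq.dvd_of_dvd_pow h); omega
  · have := aux (by norm_num) (hq.dvd_of_dvd_pow h); omega
  · have := aux (by norm_num) h; omega
  · have := aux (by norm_num) h; omega
  · have := aux (by norm_num) h; omega

/-! ### Explicit products of two conjugates -/

section Gen

variable {K : Type*} [Group K] [Finite K]

theorem hall {p : ℕ} (hp : p.Prime) (hpp : ¬ p ^ 2 ∣ Nat.card K) {g : K} (hg : orderOf g = p) (h : K)
    (hh : orderOf h = p) : ∃ (α : MulAut K) (i : ℕ), α g ∈ zpowers h ∧ ¬ p ∣ i ∧ α g = h ^ i := by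
  have : Fact p.Prime := ⟨hp⟩
  have key : ∀ {u : K}, orderOf u = p → ∃ P : Sylow p K, (P : Subgroup K) = zpowers u := by
    intro u hu
    have hpg : IsPGroup p (zpowers u) := IsPGroup.of_card (n := 1) (by rw [Nat.card_zpowers, hu, pow_one])
    obtain ⟨P, hP⟩ := hpg.exists_le_sylow
    refine ⟨P, (Subgroup.eq_of_le_of_card_ge hP ?_).symm⟩
    rw [Nat.card_zpowers, hu]
    obtain ⟨n, hn⟩ := IsPGroup.iff_card.1 P.2
    rw [hn]
    have h1 : n ≤ 1 := by
      by_contra hne
      apply hpp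
      refine (pow_dvd_pow p (show 2 ≤ n by omega)).trans ?_
      rw [← hn]
      exact Subgroup.card_subgroup_dvd_card _
    calc p ^ n ≤ p ^ 1 := Nat.pow_le_pow_right hp.pos h1
      _ = p := pow_one p
  obtain ⟨P, hP⟩ := key hg
  obtain ⟨Q, hQ⟩ := key hh
  obtain ⟨a, ha⟩ := MulAction.exists_smul_eq K P Q
  have h1 : a * g * a⁻¹ ∈ zpowers h := by
    rw [← hQ, ← ha]
    exact Subgroup.smul_mem_pointwise_smul g (MulAut.conj a) (P : Subgroup K) (by rw [hP]; exact mem_zpowers g)
  obtain ⟨i, hi⟩ := (mem_powers_iff_mem_zpowers (x := h)).2 h1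
  have hi' : h ^ i = a * g * a⁻¹ := hi
  refine ⟨MulAut.conj a, i, h1, fun hd => ?_, hi'.symm⟩
  obtain ⟨j, rfl⟩ := hd
  rw [pow_mul, ← hh, pow_orderOf_eq_one, one_pow] at hi'
  have h2 := orderOf_conj' a g
  rw [← hi', orderOf_one, hg] at h2
  exact hp.one_lt.ne h2

/-- the square of `x y` is a product of two conjugates of `x` -/
theorem not_dvd_of_fc {s : ℕ} (hs : s.Prime) (hc : center K = ⊥) {x y : K} (hy : y ^ 2 = 1)
    (hFC : FC s (mm s) (MulAut.conj x)) : ¬ s ∣ orderOf ((x * y) ^ 2) := by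
  have h1 : FC s 2 (MulAut.conj x) := hFC.mono (by unfold mm; omega)
  have h2 := fc_closure hs hc h1 ![1, y]
  intro hd
  apply h2
  have h3 : (x * y) ^ 2 ∈ closure (Set.range fun i => (![1, y] : Fin 2 → K) i * x * ((![1, y] : Fin 2 → K) i)⁻¹) := by
    have e : (x * y) ^ 2 = (1 * x * (1 : K)⁻¹) * (y * x * y⁻¹) := by
      rw [inv_eq_of_mul_eq_one_right (show y * y = 1 by rw [← pow_two]; exact hy), pow_two]
      group
    rw [e]
    exact mul_mem (subset_closure ⟨0, rfl⟩) (subset_closure ⟨1, rfl⟩)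
  exact hd.trans (Subgroup.orderOf_dvd_natCard _ h3)

omit [Finite K] in
/-- `(x y) ^ 15 = 1`, `(x y) ^ 3 ≠ 1`, `(x y) ^ 5 ≠ 1` -/
theorem dvd_fifteen {z : K} (h15 : z ^ 15 = 1) {s k : ℕ} (hs : s.Prime) (h : s * k = 15) (hk : z ^ k ≠ 1) :
    s ∣ orderOf (z ^ 2) := by
  by_contra hd
  have h1 : orderOf (z ^ 2) ∣ s * k := by
    rw [h]
    exact orderOf_dvd_of_pow_eq_one (by rw [← pow_mul, mul_comm, pow_mul, h15, one_pow])
  have h2 : orderOf (z ^ 2) ∣ k := ((Nat.Prime.coprime_iff_not_dvd hs).2 hd).symm.dvd_of_dvd_mul_left h1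
  have h3 : z ^ (2 * k) = 1 := by
    rw [pow_mul]
    exact orderOf_dvd_iff_pow_eq_one.1 h2
  apply hk
  have h4 : orderOf z ∣ 15 := orderOf_dvd_of_pow_eq_one h15
  have h5 : orderOf z ∣ 2 * k := orderOf_dvd_of_pow_eq_one h3
  have h6 : Nat.Coprime (orderOf z) 2 := Nat.Coprime.coprime_dvd_left h4 (by norm_num)
  exact orderOf_dvd_iff_pow_eq_one.1 (h6.dvd_of_dvd_mul_left h5)

end Gen

open Cfsg.Agent.Th.Gen248 Cfsg.Agent.ThType.Seven in
open Cfsg.Agent.H981.InvThData (wp) in
theorem kill_31 {s : ℕ} (hs : s = 3 ∨ s = 5) : NI s 31 Spor.Th := by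
  have := fin_th
  have hsp : s.Prime := by rcases hs with rfl | rfl <;> norm_num
  have h31 : (W wp * W (.g .c)) ^ 31 = 1 :=
    H478.RadTh.W_of (by rw [map_pow, map_mul, rho_W, rho_W, map_one, H981.InvThData.e31])
  have h15 : (W wp * W (.g .c) * W (.g .a)) ^ 15 = 1 :=
    H478.RadTh.W_of (by rw [map_pow, map_mul, map_mul, rho_W, rho_W, rho_W, map_one, ThData.eA15])
  have h3 : (W wp * W (.g .c) * W (.g .a)) ^ 3 ≠ 1 := fun h => by
    have h1 := congrArg Cfsg.Agent.Th.Hom248.rho h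
    rw [map_pow, map_mul, map_mul, rho_W, rho_W, rho_W, map_one] at h1
    exact ThData.nA3 h1
  have h5 : (W wp * W (.g .c) * W (.g .a)) ^ 5 ≠ 1 := fun h => by
    have h1 := congrArg Cfsg.Agent.Th.Hom248.rho h
    rw [map_pow, map_mul, map_mul, rho_W, rho_W, rho_W, map_one] at h1
    exact ThData.nA5 h1
  have ha : (W (.g .a)) ^ 2 = 1 :=
    H478.RadTh.W_of (by rw [map_pow, rho_W, map_one, ThData.sqa])
  have hne : W wp * W (.g .c) ≠ 1 := by
    intro h
    rw [h, one_mul] at h15 h5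
    apply h5
    have h6 : (W (.g .a)) ^ 15 = W (.g .a) := by
      rw [show (15 : ℕ) = 2 * 7 + 1 by norm_num, pow_succ, pow_mul, ha, one_pow, one_mul]
    rw [h6] at h15
    rw [h15, one_pow]
  have : Fact (Nat.Prime 31) := ⟨by norm_num⟩
  have ho : orderOf (W wp * W (.g .c)) = 31 := orderOf_eq_prime h31 hne
  refine NI.of_one (g := W wp * W (.g .c)) (by norm_num) (fun _ hFC => ?_)
    (hall (by norm_num) (by rw [card_th]; norm_num) ho)
  have h6 := not_dvd_of_fc hsp center_th ha hFC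
  rcases hs with rfl | rfl
  · exact h6 (dvd_fifteen h15 (by norm_num) (k := 5) (by norm_num) h5)
  · exact h6 (dvd_fifteen h15 (by norm_num) (k := 3) (by norm_num) h3)

open Cfsg.Agent.Th.Gen248 Cfsg.Agent.ThType.Seven in
open Cfsg.Agent.H981.InvThData (wp) in
theorem kill_19 : NI 3 19 Spor.Th := by
  have := fin_th
  have h19 : (W wp) ^ 19 = 1 := H478.RadTh.W_of (by rw [map_pow, rho_W, map_one, H981.InvThData.e19])
  have h12 : (W wp * W (.g .d)) ^ 12 = 1 :=
    H478.RadTh.W_of (by rw [map_pow, map_mul, rho_W, rho_W, map_one, ThData.eD12])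
  have h4 : (W wp * W (.g .d)) ^ 4 ≠ 1 := fun h => by
    have h1 := congrArg Cfsg.Agent.Th.Hom248.rho h
    rw [map_pow, map_mul, rho_W, rho_W, map_one] at h1
    exact ThData.nD4 h1
  have hd : (W (.g .d)) ^ 2 = 1 :=
    H478.RadTh.W_of (by rw [map_pow, rho_W, map_one, H981.InvThData.sqd])
  have hne : W wp ≠ 1 := by
    intro h
    apply h4
    rw [h, one_mul, show (4 : ℕ) = 2 * 2 by norm_num, pow_mul, hd, one_pow]
  have : Fact (Nat.Prime 19) := ⟨by norm_num⟩
  have ho : orderOf (W wp) = 19 := orderOf_eq_prime h19 hne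
  refine NI.of_one (g := W wp) (by norm_num) (fun _ hFC => ?_)
    (hall (by norm_num) (by rw [card_th]; norm_num) ho)
  have h6 := not_dvd_of_fc Nat.prime_three center_th hd hFC
  apply h6
  by_contra h7
  have h8 : orderOf ((W wp * W (.g .d)) ^ 2) ∣ 3 * 2 :=
    orderOf_dvd_of_pow_eq_one (by rw [← pow_mul]; exact h12)
  have h9 := ((Nat.Prime.coprime_iff_not_dvd Nat.prime_three).2 h7).symm.dvd_of_dvd_mul_left h8
  apply h4
  rw [show (4 : ℕ) = 2 * 2 by norm_num, pow_mul]
  exact orderOf_dvd_iff_pow_eq_one.1 h9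

/-- **The row of `Th`** -/
theorem ncs_model {s : ℕ} (hs : s = 3 ∨ s = 5 ∨ s = 7) : NCs s Spor.Th := by
  have := fin_th
  refine ncs_of_inner center_th ?_ fun x => ?_
  · intro p hp hps
    by_cases hd : p ∣ NT
    · rcases prime_cases hp hd with rfl | hp' | hp'
      · exact ni_two hs
      · exact ni_357 hs hp' hps
      · rcases hs with rfl | rfl | rfl
        · rcases hp' with rfl | rfl | rfl
          · exact ni_3_13
          · exact kill_19
          · exact kill_31 (Or.inl rfl)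
        · obtain ⟨y, hy⟩ := exists_order (q := 5) (by norm_num) (by norm_num)
          have hc := H502.TO.card_five hy
          rcases hp' with rfl | rfl | rfl
          · exact ni_V (by norm_num) (Or.inl rfl) hy hc (by norm_num) (by norm_num)
          · exact ni_V (by norm_num) (Or.inr (Or.inl rfl)) hy hc (by norm_num) (by norm_num)
          · exact kill_31 (Or.inr rfl)
        · obtain ⟨y, hy⟩ := exists_order (q := 7) (by norm_num) (by norm_num)
          have hc := H491.PB.Th.card_seven hy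
          rcases hp' with rfl | rfl | rfl
          · exact ni_V (by norm_num) (Or.inl rfl) hy hc (by norm_num) (by norm_num)
          · exact ni_V (by norm_num) (Or.inr (Or.inl rfl)) hy hc (by norm_num) (by norm_num)
          · exact ni_V (by norm_num) (Or.inr (Or.inr rfl)) hy hc (by norm_num) (by norm_num)
    · intro g hg
      exfalso
      apply hd
      rw [← card_th, ← hg]
      exact orderOf_dvd_natCard g
  · obtain ⟨k, hk⟩ := inner x
    exact ⟨k, hk.symm⟩

/-- **S4324, the Thompson group** -/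
theorem ncs_Th {K : Type*} [Group K] [Finite K] (h : Spor.IsoTh K) : NCs 3 K ∧ NCs 5 K ∧ NCs 7 K := by
  have := fin_th
  obtain ⟨e⟩ := h
  exact ⟨ncs_congr e.symm (ncs_model (Or.inl rfl)), ncs_congr e.symm (ncs_model (Or.inr (Or.inl rfl))),
    ncs_congr e.symm (ncs_model (Or.inr (Or.inr rfl)))⟩

end Cfsg.Agent.H467.PiSpor.Th
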